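import Groth.Agent.L27.Acyclic0.Smooth
import Groth.Agent.L05.HensTensor.WEHens
import Groth.Agent.L05.Henselization.UnibranchIff
import Groth.Agent.L16.Connected.OpenCase
import Groth.Agent.L20.WeaklyEtale
import Groth.Agent.L06.Spectral
import Groth.Agent.L19.Closure
import Groth.Agent.L23.GenConn.Scheme
import Groth.Agent.L27.StalkBC.Criterion

/-! # Dense opens of Milnor fibres of smooth morphisms -/

universe u

open CategoryTheory CategoryTheory.Limits AlgebraicGeometry IsLocalRing

set_option autoImplicit false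
set_option maxHeartbeats 400000
set_option maxSynthPendingDepth 3
set_option backward.isDefEq.respectTransparency.types false
set_option linter.style.haveILetI false
set_option linter.unusedSectionVars false
set_option linter.unusedVariables false

noncomputable section

namespace Groth.L23.DenseOpen

/-- A scheme weakly étale over a smooth scheme over a field has domains as local rings. -/
theorem isDomain_stalk_of_weaklyEtale_smooth {M Z : Scheme.{u}} {K : Type u} [Field K]
    (z : Z ⟶ Spec (CommRingCat.of K)) [Smooth z] (μ : M ⟶ Z) [WeaklyEtale μ] (m : M) :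
    IsDomain (M.presheaf.stalk m) := by
  let O := Z.presheaf.stalk (μ m)
  let O' := M.presheaf.stalk m
  obtain ⟨U, hU, hzU, -⟩ := exists_isAffineOpen_mem_and_subset (X := Z) (x := μ m) (U := ⊤) trivial
  obtain ⟨N, hN, hmN, eN⟩ := exists_isAffineOpen_mem_and_subset (X := M) (x := m) (U := μ ⁻¹ᵁ U) hzU
  replace eN : N ≤ μ ⁻¹ᵁ U := eN
  letI : Algebra Γ(Z, U) Γ(M, N) := (μ.appLE U N eN).hom.toAlgebra
  haveI : Algebra.WeaklyEtale Γ(Z, U) Γ(M, N) :=
    (L20.weaklyEtale_specMap_iff (μ.appLE U N eN)).1 (L20.weaklyEtale_specMap_appLE μ hN hU eN)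
  letI : Algebra Γ(Z, U) O := (Z.presheaf.germ U (μ m) hzU).hom.toAlgebra
  letI : Algebra Γ(M, N) O' := (M.presheaf.germ N m hmN).hom.toAlgebra
  letI : Algebra Γ(Z, U) O' := ((algebraMap Γ(M, N) O').comp (algebraMap Γ(Z, U) Γ(M, N))).toAlgebra
  haveI : IsScalarTower Γ(Z, U) Γ(M, N) O' := IsScalarTower.of_algebraMap_eq' rfl
  letI : Algebra O O' := (μ.stalkMap m).hom.toAlgebra
  haveI : IsLocalHom (algebraMap O O') := inferInstanceAs (IsLocalHom (μ.stalkMap m).hom)
  haveI : IsScalarTower Γ(Z, U) O O' := IsScalarTower.of_algebraMap_eq fun a => by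
    show ((μ.appLE U N eN) ≫ M.presheaf.germ N m hmN).hom a = ((Z.presheaf.germ U (μ m) hzU) ≫ μ.stalkMap m).hom a
    rw [Scheme.Hom.germ_stalkMap, Scheme.Hom.appLE, Category.assoc, M.presheaf.germ_res]
  haveI : IsLocalization.AtPrime O (hU.primeIdealOf ⟨μ m, hzU⟩).asIdeal := hU.isLocalization_stalk ⟨μ m, hzU⟩
  haveI : IsLocalization.AtPrime O' (hN.primeIdealOf ⟨m, hmN⟩).asIdeal := hN.isLocalization_stalk ⟨m, hmN⟩
  haveI := L20.weaklyEtale_isLocalization (hU.primeIdealOf ⟨μ m, hzU⟩).asIdeal.primeCompl O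
  haveI := L20.weaklyEtale_isLocalization (hN.primeIdealOf ⟨m, hmN⟩).asIdeal.primeCompl O'
  haveI : Algebra.WeaklyEtale Γ(Z, U) O' := Algebra.WeaklyEtale.trans Γ(Z, U) Γ(M, N) O'
  haveI : Algebra.WeaklyEtale O O' := by
    obtain ⟨h1, h2⟩ := L20.TorAmp.weaklyEtale_cancel Γ(Z, U) O O'
    exact ⟨h1, h2⟩
  obtain ⟨C, _, _, _, _, hC⟩ := L05.Henselization.exists_isStrictHenselization O'
  haveI := hC
  haveI : HenselianLocalRing C := hC.henselian
  haveI : IsSepClosed (ResidueField C) := hC.isSepClosure.sep_closed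
  haveI : Algebra.WeaklyEtale O' C :=
    L27.IndEtale.weaklyEtale _ _ (L05.Henselization.isIndEtale_of_isStrictHenselization O' C)
  letI : Algebra O C := ((algebraMap O' C).comp (algebraMap O O')).toAlgebra
  haveI : IsScalarTower O O' C := IsScalarTower.of_algebraMap_eq' rfl
  haveI : IsLocalHom (algebraMap O C) := RingHom.isLocalHom_comp _ _
  haveI : Algebra.WeaklyEtale O C := Algebra.WeaklyEtale.trans O O' C
  haveI := L05.HensTensor.isStrictHenselization_of_weaklyEtale O C
  haveI : IsDomain O := Groth.L21.Smooth.isDomain_stalk z (μ m)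
  haveI : IsIntegrallyClosed O := Groth.L21.Smooth.isIntegrallyClosed_stalk z (μ m)
  haveI : IsDomain C := (Groth.L05.Henselization.Branches.geomUnibranch_iff_isDomain_strict (R := O) (S := C)).1
    ⟨inferInstance, Groth.L16.Connected.isGeomUnibranch_of_normal⟩
  haveI : Module.Flat O' C := Algebra.WeaklyEtale.flat
  haveI : Module.FaithfullyFlat O' C := Module.FaithfullyFlat.of_flat_of_isLocalHom
  exact Function.Injective.isDomain (algebraMap O' C) (FaithfulSMul.algebraMap_injective O' C)

/-- Points with a generisation have irreducible sets of generisations when local rings are domains. -/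
theorem exists_common_generization {M : Scheme.{u}} (m : M) [IsDomain (M.presheaf.stalk m)] :
    ∃ g : M, ∀ d : M, d ⤳ m → g ⤳ d := by
  refine ⟨M.fromSpecStalk m (⟨⊥, Ideal.isPrime_bot⟩ : PrimeSpectrum (M.presheaf.stalk m)), fun d hd => ?_⟩
  obtain ⟨q, rfl⟩ : d ∈ Set.range (M.fromSpecStalk m) := by rw [Scheme.range_fromSpecStalk]; exact hd
  exact ((PrimeSpectrum.le_iff_specializes _ _).1 (show (⊥ : Ideal _) ≤ q.asIdeal from bot_le)).map
    (M.fromSpecStalk m).continuous

/-- An open with generisations of all points is connected in a connected space with irreducible local spaces. -/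
theorem isConnected_open {M : Type*} [TopologicalSpace M] [ConnectedSpace M] [PrespectralSpace M] [QuasiSober M]
    [T0Space M] [CompactSpace M] [QuasiSeparatedSpace M] {V : Set M} (hV : IsOpen V) (hVc : IsCompact V)
    (hdense : ∀ m : M, ∃ v ∈ V, v ⤳ m) (hirr : ∀ m : M, ∃ g : M, ∀ d : M, d ⤳ m → g ⤳ d) : _root_.IsConnected V := by
  haveI : SpectralSpace M := {}
  obtain ⟨m₀⟩ : Nonempty M := inferInstance
  obtain ⟨v₀, hv₀, -⟩ := hdense m₀
  refine ⟨⟨v₀, hv₀⟩, fun u v hu hv huv hne hne' => ?_⟩
  by_contra hcap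
  rw [Set.not_nonempty_iff_eq_empty] at hcap
  have hdisj : ∀ z ∈ V, z ∈ u → z ∉ v := fun z hz h1 h2 =>
    (Set.ext_iff.1 hcap z).1 ⟨hz, h1, h2⟩
  have hcomp : ∀ {p q : Set M}, IsOpen q → V ⊆ p ∪ q → (∀ z ∈ V, z ∈ p → z ∉ q) → IsCompact (V ∩ p) :=
    fun {p q} hq hpq hd => by
      have : V ∩ p = V ∩ qᶜ := by
        ext z
        exact ⟨fun h => ⟨h.1, hd z h.1 h.2⟩, fun h => ⟨h.1, (hpq h.1).resolve_right h.2⟩⟩
      rw [this]
      exact hVc.inter_right hq.isClosed_compl
  have hD := hcomp hv huv hdisj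
  have hE : IsCompact (V ∩ v) := hcomp hu (Set.union_comm u v ▸ huv) fun z hz h1 h2 => hdisj z hz h2 h1
  have hd : Disjoint (closure (V ∩ u)) (closure (V ∩ v)) := by
    refine Set.disjoint_left.2 fun m h1 h2 => ?_
    obtain ⟨d, hd, hdm⟩ := L06.Spectral.exists_specializes_of_mem_closure
      (L06.Spectral.isClopen_cons (hV.inter hu) hD).1 h1
    obtain ⟨e, he, hem⟩ := L06.Spectral.exists_specializes_of_mem_closure
      (L06.Spectral.isClopen_cons (hV.inter hv) hE).1 h2
    obtain ⟨g, hg⟩ := hirr m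
    exact hdisj g ((hg d hdm).mem_open hV hd.1) ((hg d hdm).mem_open hu hd.2) ((hg e hem).mem_open hv he.2)
  have hcov : closure (V ∩ u) ∪ closure (V ∩ v) = Set.univ := Set.eq_univ_iff_forall.2 fun m => by
    obtain ⟨w, hw, hwm⟩ := hdense m
    rcases huv hw with h | h
    · exact Or.inl (hwm.mem_closed isClosed_closure (subset_closure ⟨hw, h⟩))
    · exact Or.inr (hwm.mem_closed isClosed_closure (subset_closure ⟨hw, h⟩))
  have hclopen : IsClopen (closure (V ∩ u)) := ⟨isClosed_closure, by
    rw [show closure (V ∩ u) = (closure (V ∩ v))ᶜ from Set.Subset.antisymm (fun z hz => Set.disjoint_left.1 hd hz)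
      fun z hz => ((Set.ext_iff.1 hcov z).2 trivial).resolve_right hz]
    exact isClosed_closure.isOpen_compl⟩
  rcases isClopen_iff.1 hclopen with h | h
  · exact hne.ne_empty (Set.subset_eq_empty subset_closure h)
  · obtain ⟨e, he⟩ := hne'
    exact Set.disjoint_left.1 hd (h.symm ▸ trivial : e ∈ closure (V ∩ u)) (subset_closure he)

/-- An open dense in the fibres contains a generisation of each point inside its fibre. -/
theorem exists_fibre_generization {X S : Scheme.{u}} (a : X ⟶ S) [LocallyOfFiniteType a] (U : X.Opens) (w : X)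
    (hw : w ∈ closure ((U : Set X) ∩ {y | a y = a w})) : ∃ u ∈ U, a u = a w ∧ u ⤳ w := by
  let p : a.fiber (a w) ⟶ X := a.fiberι (a w)
  haveI : LocallyOfFiniteType (a.fiberToSpecResidueField (a w)) :=
    MorphismProperty.pullback_snd _ _ ‹LocallyOfFiniteType a›
  haveI : IsLocallyNoetherian (a.fiber (a w)) :=
    LocallyOfFiniteType.isLocallyNoetherian (a.fiberToSpecResidueField (a w))
  have hw' : w ∈ Set.range p := by rw [Scheme.Hom.range_fiberι]; rfl
  obtain ⟨z, hz⟩ := hw'
  let U' := p ⁻¹ᵁ U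
  have hzc : z ∈ closure (Set.range U'.ι) := by
    rw [Scheme.Opens.range_ι, (a.fiberι (a w)).isEmbedding.closure_eq_preimage_closure_image]
    show p z ∈ closure (p '' (p ⁻¹' (U : Set X)))
    rw [hz, Set.image_preimage_eq_inter_range, Scheme.Hom.range_fiberι]
    exact hw
  obtain ⟨v, hv⟩ := L19.exists_specializes_of_mem_closure_range U'.ι hzc
  refine ⟨p (U'.ι v), v.2, ?_, (hv.map p.continuous).trans (specializes_of_eq hz)⟩
  have : p (U'.ι v) ∈ Set.range p := ⟨_, rfl⟩
  rwa [Scheme.Hom.range_fiberι] at this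

variable {X S : Scheme.{u}} (a : X ⟶ S)

/-- The part of a Milnor fibre of a smooth morphism in an open dense in the fibres is connected. -/
theorem isConnected_milnor_inter [Smooth a] [IsAffine X] (U : X.Opens) (hUc : IsCompact (U : Set X))
    (hd : ∀ w : X, w ∈ closure ((U : Set X) ∩ {y | a y = a w})) (x : X)
    (RS RX : Type u) [CommRing RS] [CommRing RX] [IsLocalRing RS] [IsLocalRing RX]
    [Algebra (S.presheaf.stalk (a.base x)) RS] [IsLocalHom (algebraMap (S.presheaf.stalk (a.base x)) RS)]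
    [Hensel.IsStrictHenselization (S.presheaf.stalk (a.base x)) RS]
    [Algebra (X.presheaf.stalk x) RX] [IsLocalHom (algebraMap (X.presheaf.stalk x) RX)]
    [Hensel.IsStrictHenselization (X.presheaf.stalk x) RX]
    (ψ : RS →+* RX) [IsLocalHom ψ]
    (hψ : ψ.comp (algebraMap (S.presheaf.stalk (a.base x)) RS) =
      (algebraMap (X.presheaf.stalk x) RX).comp (a.stalkMap x).hom)
    (Ω : Type u) [Field Ω] [IsAlgClosed Ω] (η : Spec (CommRingCat.of Ω) ⟶ Spec (CommRingCat.of RS)) :
    _root_.IsConnected ((pullback.fst (Spec.map (CommRingCat.ofHom ψ)) η ≫ Hens2.specOf X x RX) ⁻¹' (U : Set X)) := by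
  let sψ := Spec.map (CommRingCat.ofHom ψ)
  let bP := Hens2.specOf X x RX
  let bS := Hens2.specOf S (a.base x) RS
  haveI : WeaklyEtale bP := L27.Acyclic0.weaklyEtale_fromStrict x RX
  haveI : WeaklyEtale bS := L27.Acyclic0.weaklyEtale_fromStrict (a.base x) RS
  have hsq : sψ ≫ bS = bP ≫ a := L27.StalkBC.specOf_comp a x RS RX ψ hψ
  let X₁ := pullback a bS
  let e : Spec (CommRingCat.of RX) ⟶ X₁ := pullback.lift bP sψ hsq.symm
  haveI : WeaklyEtale (e ≫ pullback.fst a bS) := by rw [pullback.lift_fst]; infer_instance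
  haveI : WeaklyEtale e := WeaklyEtale.of_comp e (pullback.fst a bS)
  let Z := pullback (pullback.snd a bS) η
  let μ : pullback sψ η ⟶ Z :=
    pullback.lift (pullback.fst sψ η ≫ e) (pullback.snd sψ η)
      (by rw [Category.assoc, pullback.lift_snd]; exact pullback.condition)
  have hμ : IsPullback (pullback.fst sψ η) μ e (pullback.fst (pullback.snd a bS) η) := by
    refine IsPullback.of_bot (v₂₁ := pullback.snd (pullback.snd a bS) η) (v₂₂ := pullback.snd a bS) ?_
      (pullback.lift_fst _ _ _).symm (IsPullback.of_hasPullback _ _)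
    rw [pullback.lift_snd, pullback.lift_snd]
    exact IsPullback.of_hasPullback sψ η
  haveI : WeaklyEtale μ := MorphismProperty.of_isPullback (P := @WeaklyEtale) hμ inferInstance
  haveI : Smooth (pullback.snd a bS) := MorphismProperty.pullback_snd _ _ ‹Smooth a›
  haveI : Smooth (pullback.snd (pullback.snd a bS) η) := MorphismProperty.pullback_snd _ _ ‹Smooth (pullback.snd a bS)›
  haveI : ConnectedSpace ↥(pullback sψ η) := GenConn.connectedSpace_pullback_field sψ
    (fun K _ _ θ => L27.Acyclic0.shConnected_of_smooth a x RS RX ψ hψ K θ) Ω η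
  let μ₀ : pullback sψ η ⟶ X := pullback.fst sψ η ≫ bP
  haveI : IsAffine (pullback sψ η) := inferInstance
  haveI : IsAffineHom μ₀ := inferInstance
  have hc : IsCompact (μ₀ ⁻¹' (U : Set X)) := μ₀.isCompact_preimage hUc
  refine isConnected_open (U.2.preimage μ₀.continuous) hc (fun m => ?_) fun m => ?_
  · let r : Z ⟶ X := pullback.fst (pullback.snd a bS) η ≫ pullback.fst a bS
    let s : Z ⟶ Spec (CommRingCat.of Ω) := pullback.snd (pullback.snd a bS) η
    have hr : IsPullback r s a (η ≫ bS) :=
      (IsPullback.of_hasPullback (pullback.snd a bS) η).paste_horiz (IsPullback.of_hasPullback a bS)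
    have hμr : μ ≫ r = μ₀ := by
      rw [← Category.assoc, pullback.lift_fst, Category.assoc, pullback.lift_fst]
    let w := μ₀ m
    obtain ⟨u, hu, hua, huw⟩ := exists_fibre_generization a U w (hd w)
    let t := a w
    have ht : (η ≫ bS) (closedPoint Ω) = t := by
      show _ = a (μ₀ m)
      rw [← hμr, Scheme.Hom.comp_apply μ r, ← Scheme.Hom.comp_apply r a, hr.w, Scheme.Hom.comp_apply s]
      exact congrArg _ (Subsingleton.elim (α := Spec (CommRingCat.of Ω)) _ _)
    obtain ⟨k, hk⟩ : ∃ k : Spec (CommRingCat.of Ω) ⟶ Spec (S.residueField t),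
        k ≫ S.fromSpecResidueField t = η ≫ bS :=
      ht ▸ ⟨_, Scheme.descResidueField_stalkClosedPointTo_fromSpecResidueField Ω S (η ≫ bS)⟩
    haveI : Flat k := by
      rw [← Spec.map_preimage k, HasRingHomProperty.Spec_iff (P := @Flat), RingHom.Flat]
      letI := Classical.decEq (S.residueField t)
      infer_instance
    let hh : Z ⟶ a.fiber t := pullback.lift r (s ≫ k) (hr.w.trans ((congrArg (s ≫ ·) hk.symm).trans (Category.assoc _ _ _).symm))
    have hhr : hh ≫ a.fiberι t = r := pullback.lift_fst _ _ _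
    have hhp : IsPullback hh s (a.fiberToSpecResidueField t) k := by
      refine IsPullback.of_right (h₁₂ := a.fiberι t) (v₁₃ := a) (h₂₂ := S.fromSpecResidueField t) ?_ (pullback.lift_snd _ _ _)
        (IsPullback.of_hasPullback a (S.fromSpecResidueField t))
      rw [hhr, hk]
      exact hr
    haveI : Flat hh := MorphismProperty.of_isPullback (P := @Flat) hhp.flip inferInstance
    haveI : Flat μ := inferInstance
    obtain ⟨u', hu'⟩ : u ∈ Set.range (a.fiberι t) := by rw [Scheme.Hom.range_fiberι]; exact hua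
    have hhw : a.fiberι t (hh (μ m)) = w := by
      rw [← Scheme.Hom.comp_apply, ← Scheme.Hom.comp_apply,
        show hh ≫ a.fiberι t = r from pullback.lift_fst _ _ _, hμr]
    have h1 : u' ⤳ hh (μ m) := (a.fiberι t).isEmbedding.isInducing.specializes_iff.1 (by
      rw [hu', hhw]; exact huw)
    obtain ⟨m', hm', hm'u⟩ := Flat.generalizingMap (μ ≫ hh) (show u' ⤳ (μ ≫ hh) m by
      rw [Scheme.Hom.comp_apply]; exact h1)
    refine ⟨m', ?_, hm'⟩
    show μ₀ m' ∈ U
    rw [← hμr, ← show hh ≫ a.fiberι t = r from pullback.lift_fst _ _ _, ← Category.assoc, Scheme.Hom.comp_apply, hm'u,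
      hu']
    exact hu
  · haveI := isDomain_stalk_of_weaklyEtale_smooth (pullback.snd (pullback.snd a bS) η) μ m
    exact exists_common_generization m

end Groth.L23.DenseOpen
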