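import Groth.Agent.L23.DenseOpen.Milnor
import Groth.Agent.L28.Fib.Scheme
import Groth.Agent.L28.ExtShriek.Pres

/-! # Opens dense in the fibres contain quasi-compact ones locally -/

universe u

open CategoryTheory CategoryTheory.Limits AlgebraicGeometry Topology

set_option autoImplicit false
set_option backward.isDefEq.respectTransparency.types false
set_option linter.style.haveILetI false
set_option linter.unusedSectionVars false

noncomputable section

namespace Groth.L23.DenseOpen

/-- Over an affine base, an open of an affine scheme which is dense in the fibres contains a quasi-compact one. -/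
theorem exists_compact_dense_affine {W V : Scheme.{u}} [IsAffine W] [IsAffine V] (a : W ⟶ V)
    [LocallyOfFinitePresentation a] (U : W.Opens)
    (hd : ∀ w : W, w ∈ closure ((U : Set W) ∩ {y | a y = a w})) :
    ∃ U₀ : W.Opens, U₀ ≤ U ∧ IsCompact (U₀ : Set W) ∧ ∀ w : W, w ∈ closure ((U₀ : Set W) ∩ {y | a y = a w}) := by
  classical
  let E : W.Opens → Set V := fun O => {s : V | Set.univ ∩ a.base ⁻¹' {s} ⊆ closure ((O : Set W) ∩ a.base ⁻¹' {s})}
  have hE : ∀ O : W.Opens, IsCompact (O : Set W) → IsConstructible (E O) := fun O hO => by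
    refine (L28.Fib.isLocallyConstructible_setOf_fibre_dense a ?_ IsLocallyConstructible.univ).isConstructible
    exact (hO.isConstructible O.2).isLocallyConstructible
  let J := {O : W.Opens // O ≤ U ∧ IsCompact (O : Set W)}
  have hcov : ∀ t : V, ∃ O : J, t ∈ E O.1 := fun t => by
    have hsub : a ⁻¹' {t} ∩ (U : Set W) ⊆ ⋃ O : J, (O.1 : Set W) := fun w hw => by
      obtain ⟨N, hN, hwN, hNU⟩ := exists_isAffineOpen_mem_and_subset (X := W) (x := w) (U := U) hw.2
      exact Set.mem_iUnion.2 ⟨⟨N, hNU, hN.isCompact⟩, hwN⟩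
    haveI : LocallyOfFiniteType (a.fiberToSpecResidueField t) :=
      MorphismProperty.pullback_snd _ _ (inferInstance : LocallyOfFiniteType a)
    haveI : IsLocallyNoetherian (a.fiber t) := LocallyOfFiniteType.isLocallyNoetherian (a.fiberToSpecResidueField t)
    haveI : CompactSpace (a.fiber t) := QuasiCompact.compactSpace_of_compactSpace (a.fiberToSpecResidueField t)
    haveI : IsNoetherian (a.fiber t) := {}
    have hK : IsCompact (a ⁻¹' {t} ∩ (U : Set W)) := by
      rw [Set.inter_comm, ← a.range_fiberι t, ← Set.image_preimage_eq_inter_range]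
      exact (TopologicalSpace.NoetherianSpace.isCompact _).image (a.fiberι t).continuous
    obtain ⟨T, hT⟩ := hK.elim_finite_subcover (fun O : J => (O.1 : Set W)) (fun O => O.1.2) hsub
    refine ⟨⟨T.sup Subtype.val, Finset.sup_le fun O _ => O.2.1, ?_⟩, fun w hw => ?_⟩
    · rw [TopologicalSpace.Opens.coe_finset_sup]
      simp only [Finset.sup_set_eq_biUnion, Function.comp_apply]
      exact T.finite_toSet.isCompact_biUnion fun O _ => O.2.2
    · have h := hd w
      rw [show a w = t from hw.2] at h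
      refine closure_mono ?_ h
      rintro y ⟨hyU, hyt⟩
      obtain ⟨O, hO, hyO⟩ := Set.mem_iUnion₂.1 (hT ⟨hyt, hyU⟩)
      exact ⟨(Finset.le_sup (f := Subtype.val) hO : O.1 ≤ T.sup Subtype.val) hyO, hyt⟩
  obtain ⟨T, hT⟩ := (CompactSpace.isCompact_univ (X := WithConstructibleTopology V)).elim_finite_subcover
    (fun O : J => (WithTopology.ofTopology : WithConstructibleTopology V → V) ⁻¹' E O.1)
    (fun O => L28.ExtShriek.isOpen_constructible (hE O.1 O.2.2))
    (fun z _ => Set.mem_iUnion.2 (hcov (WithTopology.ofTopology z)))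
  refine ⟨T.sup Subtype.val, Finset.sup_le fun O _ => O.2.1, ?_, fun w => ?_⟩
  · rw [TopologicalSpace.Opens.coe_finset_sup]
    simp only [Finset.sup_set_eq_biUnion, Function.comp_apply]
    exact T.finite_toSet.isCompact_biUnion fun O _ => O.2.2
  · obtain ⟨O, hO, hw⟩ := Set.mem_iUnion₂.1 (hT (Set.mem_univ (WithTopology.toTopology (constructibleTopology V) (a w))))
    refine closure_mono ?_ (hw ⟨Set.mem_univ w, rfl⟩)
    rintro y ⟨hyO, hyt⟩
    exact ⟨(Finset.le_sup (f := Subtype.val) hO : O.1 ≤ T.sup Subtype.val) hyO, hyt⟩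

/-- Every point has an affine neighbourhood on which an open dense in the fibres contains a quasi-compact one. -/
theorem exists_compact_dense {X S : Scheme.{u}} (a : X ⟶ S) [LocallyOfFinitePresentation a] (U : X.Opens)
    (hd : ∀ w : X, w ∈ closure ((U : Set X) ∩ {y | a y = a w})) (x : X) :
    ∃ W : X.Opens, IsAffineOpen W ∧ x ∈ W ∧ ∃ U₀ : (W : Scheme.{u}).Opens,
      U₀ ≤ W.ι ⁻¹ᵁ U ∧ IsCompact (U₀ : Set W) ∧
      ∀ w : W, w ∈ closure ((U₀ : Set W) ∩ {y | (W.ι ≫ a) y = (W.ι ≫ a) w}) := by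
  obtain ⟨V, hV, hxV, -⟩ := exists_isAffineOpen_mem_and_subset (X := S) (x := a x) (U := ⊤) trivial
  obtain ⟨W, hW, hxW, e⟩ := exists_isAffineOpen_mem_and_subset (X := X) (x := x) (U := a ⁻¹ᵁ V) hxV
  refine ⟨W, hW, hxW, ?_⟩
  haveI : IsAffine (W : Scheme.{u}) := hW
  haveI : IsAffine (V : Scheme.{u}) := hV
  let a' : (W : Scheme.{u}) ⟶ (V : Scheme.{u}) := a.resLE V W e
  haveI : LocallyOfFinitePresentation a' := by
    haveI : LocallyOfFinitePresentation (a' ≫ V.ι) := by rw [Scheme.Hom.resLE_comp_ι]; infer_instance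
    exact MorphismProperty.of_postcomp (W := @LocallyOfFinitePresentation) (W' := @IsOpenImmersion) a' V.ι
      inferInstance ‹LocallyOfFinitePresentation (a' ≫ V.ι)›
  have heq : ∀ w : W, {y : W | (W.ι ≫ a) y = (W.ι ≫ a) w} = {y | a' y = a' w} := fun w => by
    ext y
    show (W.ι ≫ a) y = (W.ι ≫ a) w ↔ a' y = a' w
    rw [← Scheme.Hom.resLE_comp_ι a e, Scheme.Hom.comp_apply, Scheme.Hom.comp_apply]
    exact V.ι.isEmbedding.injective.eq_iff
  obtain ⟨U₀, h1, h2, h3⟩ := exists_compact_dense_affine a' (W.ι ⁻¹ᵁ U) fun w => by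
    rw [← heq]
    have := hd (W.ι w)
    refine W.ι.isOpenEmbedding.isOpenMap.preimage_closure_subset_closure_preimage (s := (U : Set X) ∩ {y | a y = a (W.ι w)}) this |> fun h => ?_
    refine closure_mono ?_ h
    rintro y ⟨hy, hya⟩
    refine ⟨hy, ?_⟩
    show (W.ι ≫ a) y = (W.ι ≫ a) w
    rw [Scheme.Hom.comp_apply, Scheme.Hom.comp_apply]
    exact hya
  refine ⟨U₀, h1, h2, fun w => ?_⟩
  refine closure_mono ?_ (h3 w)
  rintro y ⟨hy₁, hy₂⟩
  exact ⟨hy₁, (Set.ext_iff.1 (heq w) y).2 hy₂⟩

end Groth.L23.DenseOpen
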