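import Groth.Agent.L23.DenseOpen.Sections
import Groth.Agent.L27.BigSets.Forget
import Groth.Agent.L27.BigSets.Pull
import Groth.Prelude.Def_PBC
import Mathlib.CategoryTheory.Sites.EpiMono

/-! # Smooth pullbacks of sheaves are determined on opens dense in the fibres -/

universe u

open CategoryTheory CategoryTheory.Limits AlgebraicGeometry Opposite

set_option autoImplicit false
set_option maxHeartbeats 400000
set_option maxSynthPendingDepth 3
set_option backward.isDefEq.respectTransparency.types false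
set_option linter.style.haveILetI false
set_option linter.unusedSectionVars false
set_option linter.unusedVariables false

noncomputable section

namespace Groth.L23.DenseOpen

open Groth.L27.BigSets
open Groth.L27.Fppf (cT)
open Groth.L27.EtSite

variable {X U S : Scheme.{u}} (f : X ⟶ S) (j : U ⟶ X) (F : EtCoh.Ab S)

/-- The abelian inverse image as a sheaf of the big sheaf of sets. -/
def kappa : GT f (und F) ⟶ und (BC.P f F) :=
  haveI := isIso_theta f (und F)
  inv (theta f (und F)) ≫ chi f F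

theorem isIso_kappa : IsIso (kappa f F) := by
  haveI := isIso_theta f (und F)
  haveI := isIso_chi f F
  unfold kappa
  infer_instance

/-- The comparison on the open. -/
def Theta : GT (j ≫ f) (und F) ⟶ und (BC.P j (BC.P f F)) :=
  haveI := isIso_psi₂ f (und F) j
  inv (psi₂ f (und F) j) ≫ (EtDesc.pullSh j).map (kappa f F) ≫ chi j (BC.P f F)

theorem isIso_Theta : IsIso (Theta f j F) := by
  haveI := isIso_psi₂ f (und F) j
  haveI := isIso_kappa f F
  haveI := isIso_chi j (BC.P f F)
  unfold Theta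
  infer_instance

theorem Theta_eq (V : X.Etale) (x : (GT f (und F)).obj.obj (op V)) :
    (Theta f j F).hom.app (op ((EtCoh.bc j).obj V)) ((G (und F)).obj.map (proj f j V).op x) =
      BC.eta j (BC.P f F) V ((kappa f F).hom.app (op V) x) := by
  haveI := isIso_psi₂ f (und F) j
  rw [← psi₂_eta f (und F) j V x]
  have h1 : psi₂ f (und F) j ≫ Theta f j F = (EtDesc.pullSh j).map (kappa f F) ≫ chi j (BC.P f F) := by
    rw [Theta, IsIso.hom_inv_id_assoc]
  have h2 := congrArg (fun φ : (EtDesc.pullSh j).obj (GT f (und F)) ⟶ und (BC.P j (BC.P f F)) =>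
    φ.hom.app (op ((EtCoh.bc j).obj V)) (((EtDesc.adjSh j).unit.app (GT f (und F))).hom.app (op V) x)) h1
  refine h2.trans ?_
  have h3 := congrArg (fun φ : GT f (und F) ⟶ (EtDesc.pushSh j).obj ((EtDesc.pullSh j).obj (und (BC.P f F))) =>
    φ.hom.app (op V) x) ((EtDesc.adjSh j).unit.naturality (kappa f F))
  exact (congrArg ((chi j (BC.P f F)).hom.app (op ((EtCoh.bc j).obj V))) h3.symm).trans
    (chi_eta j (BC.P f F) V _)

variable [Smooth f] [IsOpenImmersion j]

theorem dense_fibres_etale (hd : ∀ x : X, x ∈ closure (Set.range j ∩ {y : X | f.base y = f.base x})) (V : X.Etale)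
    (w : V.left) : w ∈ closure (Set.range (pullback.fst V.hom j) ∩ {y | (V.hom ≫ f) y = (V.hom ≫ f) w}) := by
  haveI : AlgebraicGeometry.Etale V.hom := V.prop
  rw [Scheme.Pullback.range_fst]
  exact dense_preimage V.hom V.hom.isOpenMap f (V.hom ≫ f) rfl _ hd w

theorem injective_proj (hd : ∀ x : X, x ∈ closure (Set.range j ∩ {y : X | f.base y = f.base x})) (V : X.Etale) :
    Function.Injective ((G (und F)).obj.map (proj f j V).op) := by
  haveI : AlgebraicGeometry.Etale V.hom := V.prop
  haveI : Smooth (V.hom ≫ f) := inferInstance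
  let A : Over S := Over.mk (pullback.fst V.hom j ≫ V.hom ≫ f)
  let l : (cT (j ≫ f)).obj ((EtCoh.bc j).obj V) ⟶ A := Over.homMk (𝟙 _) (by
    show 𝟙 _ ≫ pullback.fst V.hom j ≫ V.hom ≫ f = pullback.snd V.hom j ≫ j ≫ f
    rw [Category.id_comp]; exact pullback.condition_assoc _)
  let l' : A ⟶ (cT (j ≫ f)).obj ((EtCoh.bc j).obj V) := Over.homMk (𝟙 _) (by
    show 𝟙 _ ≫ pullback.snd V.hom j ≫ j ≫ f = pullback.fst V.hom j ≫ V.hom ≫ f
    rw [Category.id_comp]; exact (pullback.condition_assoc _).symm)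
  let r : A ⟶ (cT f).obj V := Over.homMk (pullback.fst V.hom j) rfl
  have e1 : proj f j V = l ≫ r := Over.OverMorphism.ext (Category.id_comp _).symm
  intro x y hxy
  rw [e1, ← map_comp', ← map_comp'] at hxy
  exact injective_restrict (und F) (V.hom ≫ f) (pullback.fst V.hom j) (dense_fibres_etale f j hd V)
    ((bijective_map_of_inverse (und F) l l' (Over.OverMorphism.ext (Category.id_comp _))
      (Over.OverMorphism.ext (Category.id_comp _))).1 hxy)

theorem injective_eta (hd : ∀ x : X, x ∈ closure (Set.range j ∩ {y : X | f.base y = f.base x})) (V : X.Etale) :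
    Function.Injective (BC.eta j (BC.P f F) V) := by
  haveI := isIso_kappa f F
  haveI := isIso_Theta f j F
  intro s t hst
  obtain ⟨x, rfl⟩ := (ConcreteCategory.bijective_of_isIso
    (((sheafToPresheaf _ _).map (kappa f F)).app (op V))).2 s
  obtain ⟨y, rfl⟩ := (ConcreteCategory.bijective_of_isIso
    (((sheafToPresheaf _ _).map (kappa f F)).app (op V))).2 t
  have hT := (ConcreteCategory.bijective_of_isIso
    (((sheafToPresheaf _ _).map (Theta f j F)).app (op ((EtCoh.bc j).obj V)))).1
  exact congrArg _ (injective_proj f j F hd V (hT ((Theta_eq f j F V x).trans (hst.trans (Theta_eq f j F V y).symm))))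

theorem exists_local_preimage (hd : ∀ x : X, x ∈ closure (Set.range j ∩ {y : X | f.base y = f.base x})) (V : X.Etale)
    (y : (BC.P j (BC.P f F)).obj.obj (op ((EtCoh.bc j).obj V))) (v : V.left) :
    ∃ (V' : X.Etale) (d : V' ⟶ V) (v' : V'.left) (t : (BC.P f F).obj.obj (op V')),
      d.left v' = v ∧ BC.eta j (BC.P f F) V' t = (BC.P j (BC.P f F)).obj.map ((EtCoh.bc j).map d).op y := by
  haveI := isIso_Theta f j F
  haveI : AlgebraicGeometry.Etale V.hom := V.prop
  haveI : Smooth (V.hom ≫ f) := inferInstance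
  obtain ⟨z, rfl⟩ := (ConcreteCategory.bijective_of_isIso
    (((sheafToPresheaf _ _).map (Theta f j F)).app (op ((EtCoh.bc j).obj V)))).2 y
  let i := pullback.fst V.hom j
  let l' : Over.mk (i ≫ V.hom ≫ f) ⟶ (cT (j ≫ f)).obj ((EtCoh.bc j).obj V) := Over.homMk (𝟙 _) (by
    show 𝟙 _ ≫ pullback.snd V.hom j ≫ j ≫ f = pullback.fst V.hom j ≫ V.hom ≫ f
    rw [Category.id_comp]; exact (pullback.condition_assoc _).symm)
  obtain ⟨W, k, hk, w, s, hw, hs⟩ := exists_extension (und F) (V.hom ≫ f) i (dense_fibres_etale f j hd V)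
    ((G (und F)).obj.map l'.op z) v
  haveI := hk
  let V' : X.Etale := Scheme.Etale.mk (k ≫ V.hom)
  let d : V' ⟶ V := MorphismProperty.Over.homMk k rfl
  let a : (cT f).obj V' ⟶ Over.mk (k ≫ V.hom ≫ f) := Over.homMk (𝟙 W) ((Category.id_comp _).trans (Category.assoc _ _ _).symm)
  let x : (GT f (und F)).obj.obj (op V') := (G (und F)).obj.map a.op s
  refine ⟨V', d, w, (kappa f F).hom.app (op V') x, hw, ?_⟩
  refine (Theta_eq f j F V' x).symm.trans ?_
  refine Eq.trans ?_ (NatTrans.naturality_apply (Theta f j F).hom ((EtCoh.bc j).map d).op z)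
  refine congrArg ((Theta f j F).hom.app (op ((EtCoh.bc j).obj V'))) ?_
  show (G (und F)).obj.map (proj f j V').op ((G (und F)).obj.map a.op s) =
    (G (und F)).obj.map ((cT (j ≫ f)).map ((EtCoh.bc j).map d)).op z
  let p : pullback (k ≫ V.hom) j ⟶ W := pullback.fst (k ≫ V.hom) j
  let q : pullback (k ≫ V.hom) j ⟶ pullback V.hom j := ((EtCoh.bc j).map d).left
  have hq : q ≫ i = p ≫ k := (EtCoh.isPullback_bc_map j d).w
  let lam : pullback (k ≫ V.hom) j ⟶ pullback k i := pullback.lift p q hq.symm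
  let L : (cT (j ≫ f)).obj ((EtCoh.bc j).obj V') ⟶ Over.mk (pullback.fst k i ≫ k ≫ V.hom ≫ f) := Over.homMk lam (by
    show lam ≫ pullback.fst k i ≫ k ≫ V.hom ≫ f = pullback.snd (k ≫ V.hom) j ≫ j ≫ f
    rw [← Category.assoc, pullback.lift_fst, ← Category.assoc k]
    exact pullback.condition_assoc _)
  let q₁ : Over.mk (pullback.fst k i ≫ k ≫ V.hom ≫ f) ⟶ Over.mk (k ≫ V.hom ≫ f) := Over.homMk (pullback.fst k i) rfl
  let q₂ : Over.mk (pullback.fst k i ≫ k ≫ V.hom ≫ f) ⟶ Over.mk (i ≫ V.hom ≫ f) :=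
    Over.homMk (pullback.snd k i) (pullback.condition_assoc (V.hom ≫ f)).symm
  have e1 : proj f j V' ≫ a = L ≫ q₁ := Over.OverMorphism.ext (by
    show p ≫ 𝟙 W = lam ≫ pullback.fst k i
    exact (Category.comp_id _).trans (pullback.lift_fst _ _ _).symm)
  have e2 : L ≫ q₂ ≫ l' = (cT (j ≫ f)).map ((EtCoh.bc j).map d) := Over.OverMorphism.ext (by
    show lam ≫ pullback.snd k i ≫ 𝟙 _ = q
    exact (congrArg (fun m => lam ≫ m) (Category.comp_id (pullback.snd k i))).trans (pullback.lift_snd p q hq.symm))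
  have h0 : (G (und F)).obj.map q₁.op s = (G (und F)).obj.map q₂.op ((G (und F)).obj.map l'.op z) := hs
  rw [map_comp', e1, ← map_comp', h0, map_comp', map_comp']
  exact congrArg (fun m => (G (und F)).obj.map m.op z) ((Category.assoc _ _ _).trans e2)

/-- The unit is an isomorphism. -/
theorem isIso_unit [EtCoh.BCCont f] [EtCoh.BCCont j]
    (hd : ∀ x : X, x ∈ closure (Set.range j ∩ {y : X | f.base y = f.base x})) :
    IsIso ((EtCoh.pullPushAdj j).unit.app ((EtCoh.pull f).obj F)) := by
  let K := (EtCoh.pull f).obj F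
  let φ := (EtCoh.pullPushAdj j).unit.app K
  have h1 : Sheaf.IsLocallyInjective φ := by
    refine ⟨fun {V} x y hxy => ?_⟩
    have e : x = y := injective_eta f j F hd V.unop hxy
    subst e
    refine (mem_topology_iff _).2 fun v => ⟨V.unop, 𝟙 _, v, rfl, rfl⟩
  have h2 : Sheaf.IsLocallySurjective φ := by
    refine ⟨fun {V} y => ?_⟩
    refine (mem_topology_iff _).2 fun v => ?_
    obtain ⟨V', d, v', t, hv, ht⟩ := exists_local_preimage f j F hd V y v
    exact ⟨V', d, v', ⟨t, ht⟩, hv⟩
  haveI : Mono φ := Sheaf.mono_of_isLocallyInjective φ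
  haveI : Epi φ := (Sheaf.isLocallySurjective_iff_epi' (J := X.smallEtaleTopology) AddCommGrpCat.{u+1} φ).1 h2
  exact isIso_of_mono_of_epi φ

end Groth.L23.DenseOpen
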