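import Groth.Agent.L23.DenseOpen.Compact
import Groth.Agent.L27.BigSets.FlatConn
import Groth.Agent.L27.EtSite.StrictLocal

/-! # Sections of sheaves from the base on opens dense in the fibres of smooth morphisms -/

universe u

open CategoryTheory CategoryTheory.Limits AlgebraicGeometry Opposite IsLocalRing

set_option autoImplicit false
set_option maxHeartbeats 400000
set_option maxSynthPendingDepth 3
set_option backward.isDefEq.respectTransparency.types false
set_option linter.style.haveILetI false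
set_option linter.unusedSectionVars false
set_option linter.unusedVariables false

noncomputable section

namespace Groth.L23.DenseOpen

open Groth.L27.BigSets
open Groth.L27.Fppf (comp_left_apply)

variable {S : Scheme.{u}} (F : EtDesc.Sh S)

/-- Restriction along mutually inverse maps is bijective. -/
theorem bijective_map_of_inverse {A B : Over S} (p : A ⟶ B) (q : B ⟶ A) (h₁ : p ≫ q = 𝟙 A) (h₂ : q ≫ p = 𝟙 B) :
    Function.Bijective ((G F).obj.map p.op) :=
  Function.bijective_iff_has_inverse.2 ⟨(G F).obj.map q.op,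
    fun y => by rw [map_comp', h₂, map_id'], fun y => by rw [map_comp', h₁, map_id']⟩

/-- Bijectivity of restriction is insensitive to rewriting the structure map. -/
theorem bijective_congr {Q P : Scheme.{u}} (i : Q ⟶ P) {π π' : P ⟶ S} (e : π = π')
    (h : Function.Bijective ((G F).obj.map (Over.homMk i rfl : Over.mk (i ≫ π') ⟶ Over.mk π').op)) :
    Function.Bijective ((G F).obj.map (Over.homMk i rfl : Over.mk (i ≫ π) ⟶ Over.mk π).op) := by
  subst e
  exact h

/-- Fibrewise density is preserved by open maps. -/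
theorem dense_preimage {T T' : Scheme.{u}} (θ : T' ⟶ T) (hθ : IsOpenMap θ) (a : T ⟶ S) (b : T' ⟶ S) (hb : θ ≫ a = b)
    (U : Set T) (hd : ∀ w : T, w ∈ closure (U ∩ {y | a y = a w})) (w : T') :
    w ∈ closure (θ ⁻¹' U ∩ {y | b y = b w}) := by
  refine closure_mono ?_ (hθ.preimage_closure_subset_closure_preimage (s := U ∩ {y | a y = a (θ w)}) (hd (θ w)))
  rintro y ⟨hy, hya⟩
  refine ⟨hy, ?_⟩
  show b y = b w
  rw [← hb, Scheme.Hom.comp_apply, Scheme.Hom.comp_apply]
  exact hya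

/-- On strictly local schemes of smooth morphisms, sections from the base extend uniquely from opens dense in
the fibres. -/
theorem bijective_strict {W : Scheme.{u}} [IsAffine W] (a : W ⟶ S) [Smooth a] (U₀ : W.Opens)
    (hUc : IsCompact (U₀ : Set W)) (hd : ∀ w : W, w ∈ closure ((U₀ : Set W) ∩ {y | a y = a w})) (x : W)
    (RS RX : Type u) [CommRing RS] [CommRing RX] [IsLocalRing RS] [IsLocalRing RX]
    [Algebra (S.presheaf.stalk (a.base x)) RS] [IsLocalHom (algebraMap (S.presheaf.stalk (a.base x)) RS)]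
    [Hensel.IsStrictHenselization (S.presheaf.stalk (a.base x)) RS]
    [Algebra (W.presheaf.stalk x) RX] [IsLocalHom (algebraMap (W.presheaf.stalk x) RX)]
    [Hensel.IsStrictHenselization (W.presheaf.stalk x) RX]
    (ψ : RS →+* RX) [IsLocalHom ψ]
    (hψ : ψ.comp (algebraMap (S.presheaf.stalk (a.base x)) RS) =
      (algebraMap (W.presheaf.stalk x) RX).comp (a.stalkMap x).hom) :
    Function.Bijective ((G F).obj.map (Over.homMk (Hens2.specOf W x RX ⁻¹ᵁ U₀).ι rfl :
      Over.mk ((Hens2.specOf W x RX ⁻¹ᵁ U₀).ι ≫ Spec.map (CommRingCat.ofHom ψ) ≫ Hens2.specOf S (a.base x) RS) ⟶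
        Over.mk (Spec.map (CommRingCat.ofHom ψ) ≫ Hens2.specOf S (a.base x) RS)).op) := by
  let sψ := Spec.map (CommRingCat.ofHom ψ)
  let bP := Hens2.specOf W x RX
  let bS := Hens2.specOf S (a.base x) RS
  let Q := bP ⁻¹ᵁ U₀
  have hsub : ∀ {Z : Scheme.{u}} (g : Z ⟶ Spec (CommRingCat.of RS)),
      SGA1.UnivSubmersive g → (∀ (Ω : Type u) [Field Ω] [IsAlgClosed Ω] (η : Spec (CommRingCat.of Ω) ⟶ Spec (CommRingCat.of RS)),
        ConnectedSpace ↥(pullback g η)) →
      Function.Bijective ((G F).obj.map (Over.homMk g rfl : Over.mk (g ≫ bS) ⟶ Over.mk bS).op) := fun g hs hc =>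
    bijective_restrict_of_eta bS F g
      ⟨L27.EtSite.CF.injective_eta g (GT bS F) (fun Ω _ _ η => hc Ω η) _,
        L27.EtSite.CF.surjective_eta g (GT bS F) (fun Ω _ _ η => hc Ω η)
          (fun V => hs _ _ _ (IsPullback.of_hasPullback V.hom g)) _⟩ _ rfl
  have hP := hsub sψ (shSubmersive_of_flat a x RS RX ψ hψ) (L27.Acyclic0.shConnected_of_smooth a x RS RX ψ hψ)
  haveI : Flat sψ := by
    haveI : WeaklyEtale bP := L27.Acyclic0.weaklyEtale_fromStrict x RX
    haveI : WeaklyEtale bS := L27.Acyclic0.weaklyEtale_fromStrict (a.base x) RS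
    let e : Spec (CommRingCat.of RX) ⟶ pullback a bS :=
      pullback.lift bP sψ (L27.StalkBC.specOf_comp a x RS RX ψ hψ).symm
    haveI : WeaklyEtale (e ≫ pullback.fst a bS) := by rw [pullback.lift_fst]; infer_instance
    haveI : WeaklyEtale e := WeaklyEtale.of_comp e (pullback.fst a bS)
    haveI : Flat a := inferInstance
    haveI : Flat (pullback.snd a bS) := MorphismProperty.pullback_snd _ _ ‹Flat a›
    haveI : Flat (e ≫ pullback.snd a bS) := inferInstance
    rwa [show e ≫ pullback.snd a bS = sψ from pullback.lift_snd _ _ _] at this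
  have hc : ∀ (Ω : Type u) [Field Ω] [IsAlgClosed Ω] (η : Spec (CommRingCat.of Ω) ⟶ Spec (CommRingCat.of RS)),
      ConnectedSpace ↥(pullback (Q.ι ≫ sψ) η) := fun Ω _ _ η => by
    let m : pullback (Q.ι ≫ sψ) η ⟶ pullback sψ η :=
      pullback.lift (pullback.fst _ η ≫ Q.ι) (pullback.snd _ η) (by rw [Category.assoc]; exact pullback.condition)
    have hm : IsPullback m (pullback.fst (Q.ι ≫ sψ) η) (pullback.fst sψ η) Q.ι := by
      refine IsPullback.of_right ?_ (pullback.lift_fst _ _ _) (IsPullback.of_hasPullback sψ η).flip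
      rw [pullback.lift_snd]
      exact (IsPullback.of_hasPullback (Q.ι ≫ sψ) η).flip
    haveI : IsOpenImmersion m := MorphismProperty.of_isPullback (P := @IsOpenImmersion) hm.flip inferInstance
    have hmr : Set.range m = (pullback.fst sψ η ≫ bP) ⁻¹' (U₀ : Set W) := by
      ext z
      constructor
      · rintro ⟨z₀, rfl⟩
        show (pullback.fst sψ η ≫ bP) (m z₀) ∈ U₀
        rw [← Scheme.Hom.comp_apply m, reassoc_of% hm.w]
        exact (pullback.fst (Q.ι ≫ sψ) η z₀).2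
      · intro hz
        have hq : pullback.fst sψ η z ∈ Set.range Q.ι := by
          rw [Scheme.Opens.range_ι]
          show bP (pullback.fst sψ η z) ∈ U₀
          rw [← Scheme.Hom.comp_apply]
          exact hz
        obtain ⟨q, hq⟩ := hq
        obtain ⟨z₀, hz₀, -⟩ := Scheme.exists_preimage_of_isPullback hm z q hq.symm
        exact ⟨z₀, hz₀⟩
    have hcon := isConnected_milnor_inter a U₀ hUc hd x RS RX ψ hψ Ω η
    rw [← hmr, ← Set.image_univ] at hcon
    exact connectedSpace_iff_univ.2 ⟨Set.image_nonempty.1 hcon.1,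
      (m.isEmbedding.isInducing.isPreconnected_image).1 hcon.2⟩
  haveI : CompactSpace (Q : Scheme.{u}) := by
    haveI : IsAffineHom bP := inferInstance
    exact isCompact_iff_compactSpace.1 (bP.isCompact_preimage hUc)
  haveI : QuasiCompact (Q.ι ≫ sψ) := quasiCompact_of_compactSpace _
  haveI : Surjective (Q.ι ≫ sψ) := ⟨fun s => by
    obtain ⟨Ω, _, _, η, hη⟩ := L27.EtSite.CF.exists_algClosed_point s
    haveI := hc Ω η
    obtain ⟨z⟩ : Nonempty ↥(pullback (Q.ι ≫ sψ) η) := inferInstance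
    refine ⟨pullback.fst (Q.ι ≫ sψ) η z, ?_⟩
    rw [← Scheme.Hom.comp_apply, pullback.condition, Scheme.Hom.comp_apply, ← hη]
    exact congrArg _ (Subsingleton.elim (α := Spec (CommRingCat.of Ω)) _ _)⟩
  have hQ := hsub (Q.ι ≫ sψ) (L27.TopInv.univSubmersive_of_fpqc _) hc
  refine (Function.Bijective.of_comp_iff _ hP).1 ?_
  have h2 : (fun z => (G F).obj.map (Over.homMk Q.ι rfl : Over.mk (Q.ι ≫ sψ ≫ bS) ⟶ Over.mk (sψ ≫ bS)).op
      ((G F).obj.map (Over.homMk sψ rfl : Over.mk (sψ ≫ bS) ⟶ Over.mk bS).op z)) =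
      fun z => (G F).obj.map (Over.homMk (𝟙 _) (by simp) : Over.mk (Q.ι ≫ sψ ≫ bS) ⟶ Over.mk ((Q.ι ≫ sψ) ≫ bS)).op
      ((G F).obj.map (Over.homMk (Q.ι ≫ sψ) rfl : Over.mk ((Q.ι ≫ sψ) ≫ bS) ⟶ Over.mk bS).op z) := funext fun z => by
    rw [map_comp', map_comp']
    exact congrArg (fun k => (G F).obj.map k.op z) (Over.OverMorphism.ext (Category.id_comp _).symm)
  refine (congrArg Function.Bijective h2).mpr (Function.Bijective.comp ?_ hQ)
  exact bijective_map_of_inverse F _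
    (Over.homMk (𝟙 _) (by simp) : Over.mk ((Q.ι ≫ sψ) ≫ bS) ⟶ Over.mk (Q.ι ≫ sψ ≫ bS))
    (Over.OverMorphism.ext (Category.id_comp _)) (Over.OverMorphism.ext (Category.id_comp _))

theorem weaklyEtale_specOf {X : Scheme.{u}} (x : X) (R : Type u) [CommRing R] [IsLocalRing R]
    [Algebra (X.presheaf.stalk x) R] [IsLocalHom (algebraMap (X.presheaf.stalk x) R)]
    [Hensel.IsStrictHenselization (X.presheaf.stalk x) R] : WeaklyEtale (Hens2.specOf X x R) :=
  L27.Acyclic0.weaklyEtale_fromStrict x R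

/-- The local data at a point. -/
theorem exists_data_at {T : Scheme.{u}} (a : T ⟶ S) [Smooth a] (U : T.Opens)
    (hd : ∀ w : T, w ∈ closure ((U : Set T) ∩ {y | a y = a w})) (v : T) :
    ∃ (W : Scheme.{u}) (_ : IsAffine W) (o : W ⟶ T) (_ : IsOpenImmersion o) (U₀ : W.Opens)
      (R : Type u) (_ : CommRing R) (_ : HenselianLocalRing R) (_ : IsSepClosed (ResidueField R))
      (b : Spec (CommRingCat.of R) ⟶ W),
      U₀ ≤ o ⁻¹ᵁ U ∧ IsCompact (U₀ : Set W) ∧ (∀ w : W, w ∈ closure ((U₀ : Set W) ∩ {y | (o ≫ a) y = (o ≫ a) w})) ∧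
      o (b (closedPoint R)) = v ∧ WeaklyEtale b ∧
      Function.Bijective ((G F).obj.map (Over.homMk (b ⁻¹ᵁ U₀).ι rfl :
        Over.mk ((b ⁻¹ᵁ U₀).ι ≫ b ≫ o ≫ a) ⟶ Over.mk (b ≫ o ≫ a)).op) := by
  obtain ⟨W, hW, hvW, U₀, h1, h2, h3⟩ := exists_compact_dense a U hd v
  haveI : IsAffine (W : Scheme.{u}) := hW
  let w : W := ⟨v, hvW⟩
  let a' := W.ι ≫ a
  obtain ⟨RS, _, _, _, _, hRS⟩ := L05.Henselization.exists_isStrictHenselization (S.presheaf.stalk (a'.base w))
  obtain ⟨RX, _, _, _, _, hRX⟩ := L05.Henselization.exists_isStrictHenselization ((W : Scheme.{u}).presheaf.stalk w)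
  haveI := hRS; haveI := hRX
  haveI : HenselianLocalRing RX := hRX.henselian
  haveI : IsSepClosed (ResidueField RX) := hRX.isSepClosure.sep_closed
  obtain ⟨ψ, _, hψ⟩ := L27.StalkBC.exists_strictMap a' w RS RX
  let b := Hens2.specOf (W : Scheme.{u}) w RX
  refine ⟨W, inferInstance, W.ι, inferInstance, U₀, RX, inferInstance, inferInstance, inferInstance, b, h1, h2, h3,
    ?_, weaklyEtale_specOf (X := (W : Scheme.{u})) w RX, ?_⟩
  · have hc : Hens2.specOf (W : Scheme.{u}) w RX (closedPoint RX) = w :=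
      (Scheme.Hom.comp_apply _ _ _).trans ((congrArg ((W : Scheme.{u}).fromSpecStalk w)
        (IsLocalRing.comap_closedPoint (algebraMap ((W : Scheme.{u}).presheaf.stalk w) RX))).trans
        Scheme.fromSpecStalk_closedPoint)
    exact congrArg W.ι hc
  · exact bijective_congr F _ (L27.StalkBC.specOf_comp a' w RS RX ψ hψ).symm
      (bijective_strict F a' U₀ h2 h3 w RS RX ψ hψ)

/-- Sections from the base are determined on opens dense in the fibres. -/
theorem injective_restrict {T T' : Scheme.{u}} (a : T ⟶ S) [Smooth a] (i : T' ⟶ T) [IsOpenImmersion i]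
    (hd : ∀ w : T, w ∈ closure (Set.range i ∩ {y | a y = a w})) :
    Function.Injective ((G F).obj.map (Over.homMk i rfl : Over.mk (i ≫ a) ⟶ Over.mk a).op) := by
  intro x y hxy
  refine eq_of_eqNear F (T := Over.mk a) x y fun v => ?_
  obtain ⟨W, _, o, _, U₀, R, _, _, _, b, h1, -, -, hv, -, hbij⟩ := exists_data_at F a i.opensRange hd v
  let Q := b ⁻¹ᵁ U₀
  have hj : Set.range (Q.ι ≫ b ≫ o) ⊆ Set.range i := by
    rintro _ ⟨q, rfl⟩
    rw [Scheme.Hom.comp_apply, Scheme.Hom.comp_apply]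
    exact h1 q.2
  let j : Over.mk (Q.ι ≫ b ≫ o ≫ a) ⟶ Over.mk (i ≫ a) := Over.homMk (IsOpenImmersion.lift i (Q.ι ≫ b ≫ o) hj)
    (by show IsOpenImmersion.lift i (Q.ι ≫ b ≫ o) hj ≫ i ≫ a = _; rw [IsOpenImmersion.lift_fac_assoc]; simp)
  let l : Over.mk (b ≫ o ≫ a) ⟶ Over.mk a := Over.homMk (b ≫ o) (Category.assoc _ _ _)
  let r : Over.mk (i ≫ a) ⟶ Over.mk a := Over.homMk i rfl
  let ι : Over.mk (Q.ι ≫ b ≫ o ≫ a) ⟶ Over.mk (b ≫ o ≫ a) := Over.homMk Q.ι rfl
  have he : ι ≫ l = j ≫ r := Over.OverMorphism.ext (IsOpenImmersion.lift_fac _ _ _).symm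
  have h : (G F).obj.map l.op x = (G F).obj.map l.op y := hbij.1 (by
    show (G F).obj.map ι.op _ = (G F).obj.map ι.op _
    rw [map_comp', map_comp', he, ← map_comp' F j r, ← map_comp' F j r, hxy])
  have h' := EqNear.of_map F l x y (closedPoint R) (eqNear_of_eq F _ _ h _)
  rwa [show l.left (closedPoint R) = v from (Scheme.Hom.comp_apply b o (closedPoint R)).trans hv] at h'

/-- Sections from the base on an open dense in the fibres extend locally. -/
theorem exists_extension {T T' : Scheme.{u}} (a : T ⟶ S) [Smooth a] (i : T' ⟶ T) [IsOpenImmersion i]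
    (hd : ∀ w : T, w ∈ closure (Set.range i ∩ {y | a y = a w}))
    (σ : (G F).obj.obj (op (Over.mk (i ≫ a)))) (v : T) :
    ∃ (V : Scheme.{u}) (k : V ⟶ T) (_ : AlgebraicGeometry.Etale k) (v₀ : V) (s : (G F).obj.obj (op (Over.mk (k ≫ a)))),
      k v₀ = v ∧
        (G F).obj.map (Over.homMk (pullback.fst k i) rfl : Over.mk (pullback.fst k i ≫ k ≫ a) ⟶ Over.mk (k ≫ a)).op s =
          (G F).obj.map (Over.homMk (pullback.snd k i) (pullback.condition_assoc a).symm :
            Over.mk (pullback.fst k i ≫ k ≫ a) ⟶ Over.mk (i ≫ a)).op σ := by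
  obtain ⟨W, _, o, _, U₀, R, _, _, _, b, h1, hUc, h3, hv, _, hbij⟩ := exists_data_at F a i.opensRange hd v
  let Q := b ⁻¹ᵁ U₀
  have hj : Set.range (Q.ι ≫ b ≫ o) ⊆ Set.range i := by
    rintro _ ⟨q, rfl⟩
    rw [Scheme.Hom.comp_apply, Scheme.Hom.comp_apply]
    exact h1 q.2
  let jl := IsOpenImmersion.lift i (Q.ι ≫ b ≫ o) hj
  let j : Over.mk (Q.ι ≫ b ≫ o ≫ a) ⟶ Over.mk (i ≫ a) := Over.homMk jl
    (by show jl ≫ i ≫ a = _; rw [IsOpenImmersion.lift_fac_assoc]; simp)
  let P : Over S := Over.mk (b ≫ o ≫ a)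
  let ι : Over.mk (Q.ι ≫ b ≫ o ≫ a) ⟶ P := Over.homMk Q.ι rfl
  obtain ⟨sP, hsP⟩ : ∃ sP, (G F).obj.map ι.op sP = (G F).obj.map j.op σ := hbij.2 _
  -- represent the section on the strictly local scheme
  obtain ⟨T₁, g, t₁, V'', c, s, hg, ht₁, hs⟩ := exists_e F (T := P) sP (closedPoint R)
  let gl : T₁.left ⟶ Spec (CommRingCat.of R) := g.left
  haveI : AlgebraicGeometry.Etale gl := hg
  let Vp : (Spec (CommRingCat.of R)).Etale := Scheme.Etale.mk gl
  have hcp : (L27.EtSite.closedPt R).base default = closedPoint R := by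
    rw [Subsingleton.elim (default : Spec (CommRingCat.of (ResidueField R))) (closedPoint (ResidueField R))]
    exact IsLocalRing.comap_closedPoint (residue R)
  obtain ⟨y₀, -⟩ := L27.EtSite.exists_fiber (L27.EtSite.closedPt R) Vp t₁ (ht₁.trans hcp.symm)
  obtain ⟨τ, -⟩ := L27.EtSite.exists_section R Vp y₀
  let τl : Spec (CommRingCat.of R) ⟶ T₁.left := τ.left
  have hτ : τl ≫ gl = 𝟙 _ := MorphismProperty.Over.w τ
  let τO : P ⟶ T₁ := Over.homMk τl (by
    rw [← Over.w g, ← Category.assoc]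
    exact (congrArg (· ≫ P.hom) hτ).trans (Category.id_comp _))
  have hτg : τO ≫ g = 𝟙 P := Over.OverMorphism.ext hτ
  have hsP' : sP = L27.BigSets.e F (τO ≫ c) s := by
    rw [← e_map, ← hs, map_comp', hτg, map_id']
  let r : Spec (CommRingCat.of R) ⟶ V''.left := (τO ≫ c).left
  have hr : r ≫ V''.hom = b ≫ o ≫ a := Over.w (τO ≫ c)
  haveI : AlgebraicGeometry.Etale V''.hom := V''.prop
  let V₃ := pullback V''.hom (o ≫ a)
  let p₃ : V₃ ⟶ V''.left := pullback.fst V''.hom (o ≫ a)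
  let q₃ : V₃ ⟶ W := pullback.snd V''.hom (o ≫ a)
  haveI : AlgebraicGeometry.Etale q₃ := MorphismProperty.pullback_snd (P := EtCoh.etaleMP.{u}) _ _ V''.prop
  let ρ₃ : Spec (CommRingCat.of R) ⟶ V₃ := pullback.lift r b hr
  obtain ⟨N, hN, hρN, -⟩ := exists_isAffineOpen_mem_and_subset (X := V₃) (x := ρ₃ (closedPoint R)) (U := ⊤) trivial
  haveI : IsAffine (N : Scheme.{u}) := hN
  have hρr : Set.range ρ₃ ⊆ Set.range N.ι := by
    rintro _ ⟨p, rfl⟩
    rw [Scheme.Opens.range_ι]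
    exact (IsLocalRing.specializes_closedPoint p).mem_open (N.2.preimage ρ₃.continuous) hρN
  let ρ := IsOpenImmersion.lift N.ι ρ₃ hρr
  have hρ : ρ ≫ N.ι = ρ₃ := IsOpenImmersion.lift_fac _ _ _
  let θ : (N : Scheme.{u}) ⟶ W := N.ι ≫ q₃
  haveI : AlgebraicGeometry.Etale θ := inferInstanceAs (AlgebraicGeometry.Etale (N.ι ≫ q₃))
  have hρθ : ρ ≫ θ = b := by rw [← Category.assoc, hρ, pullback.lift_snd]
  haveI : WeaklyEtale (ρ ≫ θ) := hρθ.symm ▸ ‹WeaklyEtale b›
  haveI : WeaklyEtale ρ := WeaklyEtale.of_comp ρ θ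
  let k : (N : Scheme.{u}) ⟶ T := θ ≫ o
  haveI : AlgebraicGeometry.Etale k := inferInstanceAs (AlgebraicGeometry.Etale (θ ≫ o))
  let cN : Over.mk (k ≫ a) ⟶ (EtFppf.a S).obj V'' := Over.homMk (N.ι ≫ p₃) (by
    show (N.ι ≫ p₃) ≫ V''.hom = ((N.ι ≫ q₃) ≫ o) ≫ a
    simp only [Category.assoc]
    exact congrArg (N.ι ≫ ·) pullback.condition)
  let s' : (G F).obj.obj (op (Over.mk (k ≫ a))) := L27.BigSets.e F cN s
  let ρO : P ⟶ Over.mk (k ≫ a) := Over.homMk ρ (by
    show ρ ≫ (θ ≫ o) ≫ a = b ≫ o ≫ a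
    rw [Category.assoc, ← Category.assoc ρ, hρθ])
  have hρs : (G F).obj.map ρO.op s' = sP := by
    rw [hsP', e_map]
    refine congrArg (fun l => L27.BigSets.e F l s) (Over.OverMorphism.ext ?_)
    show ρ ≫ N.ι ≫ p₃ = (τO ≫ c).left
    rw [← Category.assoc, hρ, pullback.lift_fst]
  -- the locus of agreement
  let VU : Over S := Over.mk (pullback.fst k i ≫ k ≫ a)
  let q₁ : VU ⟶ Over.mk (k ≫ a) := Over.homMk (pullback.fst k i) rfl
  let q₂ : VU ⟶ Over.mk (i ≫ a) := Over.homMk (pullback.snd k i) (pullback.condition_assoc a).symm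
  let A : Set ↥(pullback k i) := {p | EqNear F ((G F).obj.map q₁.op s') ((G F).obj.map q₂.op σ) p}
  have hA : IsOpen A := isOpen_eqNear F (T := VU) _ _
  let f₁ : pullback k i ⟶ (N : Scheme.{u}) := pullback.fst k i
  have hA' : IsOpen (f₁ '' A) := f₁.isOpenEmbedding.isOpenMap A hA
  let U₀N : (N : Scheme.{u}).Opens := θ ⁻¹ᵁ U₀
  have hU₀N : IsCompact (U₀N : Set N) := θ.isCompact_preimage hUc
  have hQA : ∀ p : Spec (CommRingCat.of R), b p ∈ U₀ → ρ p ∈ f₁ '' A := by
    intro p hp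
    let ul : (Q : Scheme.{u}) ⟶ pullback k i := pullback.lift (Q.ι ≫ ρ) jl (by
      rw [IsOpenImmersion.lift_fac, Category.assoc]
      show Q.ι ≫ ρ ≫ θ ≫ o = _
      rw [← Category.assoc ρ, hρθ])
    let uO : Over.mk (Q.ι ≫ b ≫ o ≫ a) ⟶ VU := Over.homMk ul (by
      show ul ≫ pullback.fst k i ≫ k ≫ a = _
      rw [← Category.assoc, pullback.lift_fst, Category.assoc]
      exact congrArg (Q.ι ≫ ·) (Over.w ρO))
    have e1 : uO ≫ q₁ = ι ≫ ρO := Over.OverMorphism.ext (pullback.lift_fst _ _ _)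
    have e2 : uO ≫ q₂ = j := Over.OverMorphism.ext (pullback.lift_snd _ _ _)
    have h : (G F).obj.map uO.op ((G F).obj.map q₁.op s') = (G F).obj.map uO.op ((G F).obj.map q₂.op σ) := by
      rw [map_comp', map_comp', e1, e2, ← map_comp' F ι ρO, hρs, hsP]
    refine ⟨ul ⟨p, hp⟩, EqNear.of_map F uO _ _ (⟨p, hp⟩ : Q) (eqNear_of_eq F _ _ h _), ?_⟩
    rw [← Scheme.Hom.comp_apply, pullback.lift_fst, Scheme.Hom.comp_apply]
    rfl
  let K : Set N := (U₀N : Set N) ∩ (f₁ '' A)ᶜ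
  have hKc : @IsClosed _ (constructibleTopology N) K :=
    @IsClosed.inter _ _ _ (constructibleTopology N) (L06.Spectral.isClopen_cons U₀N.2 hU₀N).1
      (L06.Spectral.isClosed_cons_of_isClosed hA'.isClosed_compl)
  have hv₁ : ρ (closedPoint R) ∉ closure K := by
    intro hc
    haveI : SpectralSpace (N : Scheme.{u}) := {}
    obtain ⟨e, ⟨heU, heA⟩, hes⟩ := L06.Spectral.exists_specializes_of_mem_closure hKc hc
    obtain ⟨p, -, rfl⟩ := Flat.generalizingMap ρ hes
    refine heA (hQA p ?_)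
    rw [← hρθ, Scheme.Hom.comp_apply]
    exact heU
  let O : (N : Scheme.{u}).Opens := ⟨(closure K)ᶜ, isClosed_closure.isOpen_compl⟩
  let k' : (O : Scheme.{u}) ⟶ T := O.ι ≫ k
  haveI : AlgebraicGeometry.Etale k' := inferInstanceAs (AlgebraicGeometry.Etale (O.ι ≫ k))
  let oO : Over.mk (k' ≫ a) ⟶ Over.mk (k ≫ a) := Over.homMk O.ι (Category.assoc _ _ _).symm
  refine ⟨O, k', inferInstance, ⟨ρ (closedPoint R), hv₁⟩, (G F).obj.map oO.op s', ?_, ?_⟩
  · show k' ⟨ρ (closedPoint R), hv₁⟩ = v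
    rw [Scheme.Hom.comp_apply]
    show k (ρ (closedPoint R)) = v
    rw [← Scheme.Hom.comp_apply, ← Category.assoc, hρθ, Scheme.Hom.comp_apply]
    exact hv
  · let g₁ : pullback k' i ⟶ (O : Scheme.{u}) := pullback.fst k' i
    let b' : pullback k' i ⟶ S := g₁ ≫ k' ≫ a
    haveI : Smooth b' := inferInstanceAs (Smooth (g₁ ≫ k' ≫ a))
    let Ω₀ : (pullback k' i).Opens := (g₁ ≫ O.ι ≫ θ) ⁻¹ᵁ U₀
    haveI : AlgebraicGeometry.Etale (g₁ ≫ O.ι ≫ θ) := inferInstance
    have hd' : ∀ w, w ∈ closure (Set.range Ω₀.ι ∩ {y | b' y = b' w}) := fun w => by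
      rw [Scheme.Opens.range_ι]
      exact dense_preimage (g₁ ≫ O.ι ≫ θ) (g₁ ≫ O.ι ≫ θ).isOpenMap (o ≫ a) b'
        (by simp only [b', k', k, Category.assoc]) _ h3 w
    let om : pullback k' i ⟶ pullback k i := pullback.lift (g₁ ≫ O.ι) (pullback.snd k' i)
      (by rw [Category.assoc]; exact pullback.condition)
    let omO : Over.mk b' ⟶ VU := Over.homMk om (by
      show om ≫ pullback.fst k i ≫ k ≫ a = g₁ ≫ (O.ι ≫ k) ≫ a
      rw [← Category.assoc, pullback.lift_fst]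
      simp only [Category.assoc])
    refine injective_restrict F b' Ω₀.ι hd' (eq_of_eqNear F (T := Over.mk (Ω₀.ι ≫ b')) _ _ fun p => ?_)
    refine EqNear.map F (Over.homMk Ω₀.ι rfl : Over.mk (Ω₀.ι ≫ b') ⟶ Over.mk b') _ _ p ?_
    have hp : om (Ω₀.ι p) ∈ A := by
      by_contra hne
      have hN : f₁ (om (Ω₀.ι p)) = O.ι (g₁ (Ω₀.ι p)) := by
        rw [← Scheme.Hom.comp_apply om, show om ≫ f₁ = g₁ ≫ O.ι from pullback.lift_fst _ _ _, Scheme.Hom.comp_apply]
      have h2 : f₁ (om (Ω₀.ι p)) ∈ K := by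
        refine ⟨?_, fun ⟨z, hz, hze⟩ => hne (f₁.isOpenEmbedding.injective hze ▸ hz)⟩
        rw [hN]
        have := p.2
        show θ (O.ι (g₁ (Ω₀.ι p))) ∈ U₀
        rw [← Scheme.Hom.comp_apply, ← Scheme.Hom.comp_apply]
        exact this
      rw [hN] at h2
      exact (g₁ (Ω₀.ι p)).2 (subset_closure h2)
    have h4 := EqNear.map F omO _ _ (Ω₀.ι p) hp
    rw [map_comp', map_comp'] at h4
    let g₁O : Over.mk b' ⟶ Over.mk (k' ≫ a) := Over.homMk g₁ rfl
    let g₂O : Over.mk b' ⟶ Over.mk (i ≫ a) := Over.homMk (pullback.snd k' i) (pullback.condition_assoc a).symm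
    have e1 : omO ≫ q₁ = g₁O ≫ oO := Over.OverMorphism.ext (pullback.lift_fst _ _ _)
    have e2 : omO ≫ q₂ = g₂O := Over.OverMorphism.ext (pullback.lift_snd _ _ _)
    rw [e1, e2] at h4
    convert h4 using 1
    · rw [map_comp']
    · rfl

end Groth.L23.DenseOpen
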